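import Cfsg.Agent.Lib.Signalizer.Chain
import Cfsg.Agent.Lib.PGroup.ZJCore
import Cfsg.Agent.Lib.PGroup.ZJControl
import Cfsg.Agent.Lib.Solvable.Stability
import Cfsg.Agent.Lib.Coprime.THBasic

set_option autoImplicit false
set_option linter.unusedVariables false
set_option linter.style.haveILetI false
set_option linter.unusedSectionVars false
set_option linter.deprecated false

/-!
# Instances of `GoodW`

`W = Z(J(·))` (abelian version) for an odd prime `q` when the members of the family satisfy `QHyp q`.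
-/

namespace Cfsg.Agent.Lib.Signalizer.GoodZJ

open Cfsg Cfsg.Agent.Lib.Signalizer.Basic Cfsg.Agent.Lib.Signalizer.Transitivity
open Cfsg.Agent.Lib.Signalizer.Frame Cfsg.Agent.Lib.Signalizer.QCore
open Cfsg.Agent.Lib.Signalizer.Chain
open Cfsg.Agent.Lib.PGroup.ZJ Cfsg.Agent.Lib.PGroup.ZJCore
open Cfsg.Agent.Lib.Solvable.Stability

section Stable

open Subgroup Cfsg.Agent.Lib.Basic.PCore Cfsg.Agent.Lib.Solvable.PSeries

/-- `p`-stability in the form used by `zj_core`, under `QHyp`. -/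
theorem stableAt_of_qhyp {X : Type*} [Group X] [Finite X] {q : ℕ} [Fact q.Prime]
    (hX : Group.IsSolvable X) (hQ : QHyp q (Nat.card X)) (S : Subgroup X) (hS : IsPGroup q S) :
    StableAt q X S := by
  classical
  intro P hP _ hPn a ha haN hquad
  set N := normalizer (P : Set X) with hN
  set P' : Subgroup N := P.subgroupOf N with hP'
  haveI hP'n : P'.Normal := Subgroup.normal_in_normalizer
  have hP'p : IsPGroup q P' := hP.comap_of_injective _ (subtype_injective N)
  have hsol : IsPSolvable q N := isPSolvable_of_solvable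
  have hq : QHyp q (Nat.card N) := hQ.of_dvd (Subgroup.card_subgroup_dvd_card N)
  have hCeq : (centralizer (P : Set X)).subgroupOf N = centralizer (P' : Set N) := by
    ext z
    simp only [mem_subgroupOf, mem_centralizer_iff]
    constructor
    · intro h x hx
      apply Subtype.ext
      exact h x hx
    · intro h x hx
      have hxN : x ∈ N := le_normalizer hx
      have := h ⟨x, hxN⟩ hx
      exact congrArg Subtype.val this
  refine stable_core' hq hsol P' hP'p ⟨a, haN⟩ ?_ _ hCeq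
  apply sectionQuad_of_quadratic
  rintro y hy
  apply Subtype.ext
  have hy' : (y : X) ∈ P := hy
  exact quadratic_of_commutator' (mem_zpowers a) hquad _ hy'

end Stable

variable {G : Type*} [Group G] [Finite G] {p q : ℕ} [Fact p.Prime] [Fact q.Prime]
  {A : Subgroup G} {θ : G → Subgroup G}

omit [Fact p.Prime] in
/-- `ZZ 0` is a characteristic functor. -/
theorem isWF_ZZ : IsWF q (ZZ 0 : Subgroup G → Subgroup G) where
  le := fun S => ZZ_le_self 0 S
  conj := fun S g => (ZZ_map 0 S (MulAut.conj g)).symm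
  ne := fun S hS hq => Cfsg.Agent.Lib.PGroup.ZJControl.ZZ_ne_bot (Or.inl rfl) hq hS

/-- The `ZJ`-factorization of a solvable subgroup under `QHyp`. -/
theorem zz_factor {K S : Subgroup G} (hKs : Group.IsSolvable K) (hq2 : q ≠ 2)
    (hQ : QHyp q (Nat.card K)) (hS : IsSyl q S K) {k : G} (hk : k ∈ K) :
    ∃ d ∈ qCore q K, ∃ n ∈ K ⊓ Subgroup.normalizer ((ZZ 0 S : Subgroup G) : Set G), k = d * n := by
  have hSK := hS.1
  have hq : IsPGroup q (S.subgroupOf K) :=
    IsPGroup.of_equiv hS.isPGroup (Subgroup.subgroupOfEquivOfLe hSK).symm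
  have hidx : ¬ q ∣ (S.subgroupOf K).index := hS.not_dvd
  let P : Sylow q ↥K := hq.toSylow hidx
  have hPS : (P : Subgroup ↥K).map K.subtype = S := by
    show (S.subgroupOf K).map K.subtype = S
    exact Subgroup.map_subgroupOf_eq_of_le hSK
  obtain ⟨o, ho, y, hy, e⟩ := zj_core hq2 (Or.inl rfl)
    (Cfsg.Agent.Lib.Coprime.THBasic.isPConstrained_of_isSolvable q hKs) P
    (stableAt_of_qhyp hKs hQ _ P.isPGroup') (strongly_closed_self _) ⟨k, hk⟩
  refine ⟨o, ⟨o, ho, rfl⟩, y, ⟨y.2, ?_⟩, congrArg Subtype.val e⟩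
  have hZ := ZZ_map_hom K.subtype (fun x _ h => Subtype.ext h) 0 (R := (P : Subgroup ↥K))
  rw [hPS] at hZ
  rw [← hZ]
  apply Cfsg.Agent.Lib.PGroup.Replacement.mem_normalizer_of_conj_mem
  rintro _ ⟨z, hz, rfl⟩
  exact ⟨y * z * y⁻¹, (Subgroup.mem_normalizer_iff.mp hy z).mp hz, rfl⟩

/-- **`GoodW` for `ZJ`**: `q` odd, members satisfying `QHyp`. -/
theorem goodW_ZZ (hq2 : q ≠ 2) (hK : ∀ K ∈ signalizerFamily p A θ, QHyp q (Nat.card K)) :
    GoodW p q A θ (ZZ 0) (ZZ 0) where
  h₁ := isWF_ZZ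
  h₂ := isWF_ZZ
  fact := by
    intro K hKm S hS hSA hS1 k hk
    obtain ⟨d, hd, n, hn, e⟩ := zz_factor hKm.1 hq2 (hK K hKm) hS hk
    exact ⟨d, hd, n, hn, 1, ⟨K.one_mem, Subgroup.one_mem _⟩, by rw [mul_one, e]⟩

/-- `q ≥ 5`. -/
theorem goodW_of_five (hq5 : 5 ≤ q) : GoodW p q A θ (ZZ 0) (ZZ 0) :=
  goodW_ZZ (by omega) (fun _ _ => Or.inl hq5)

/-- Odd `q`, all members of odd order (e.g. `p = 2`). -/
theorem goodW_of_odd (hq2 : q ≠ 2) (hK : ∀ K ∈ signalizerFamily p A θ, Odd (Nat.card K)) :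
    GoodW p q A θ (ZZ 0) (ZZ 0) :=
  goodW_ZZ hq2 (fun K hKm => Or.inr ⟨hq2, hK K hKm⟩)

/-- `p = 2`. -/
theorem goodW_two (hq2 : q ≠ 2) {A : Subgroup G} {θ : G → Subgroup G} :
    GoodW 2 q A θ (ZZ 0) (ZZ 0) :=
  goodW_of_odd hq2 (fun K hKm => by
    have h := hKm.2.1
    exact Nat.odd_iff.mpr (by omega))

end Cfsg.Agent.Lib.Signalizer.GoodZJ
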