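import Cfsg.Agent.Lib.Signalizer.Main
import Cfsg.Agent.Lib.Signalizer.GoodZJ
import Cfsg.Agent.Lib.Signalizer.Reduction

set_option autoImplicit false
set_option linter.unusedVariables false
set_option linter.style.haveILetI false
set_option linter.unusedSectionVars false
set_option linter.deprecated false

/-!
# Completeness of solvable signalizer functors for the prime `2`

The solvable signalizer functor theorem for the prime `p = 2`: every member has odd order, hence
every prime of the functor has the one-functor `Z(J)` factorization.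
-/

namespace Cfsg.Agent.Lib.Signalizer.CompleteTwo

open Cfsg Cfsg.Agent.Lib.Signalizer.Basic Cfsg.Agent.Lib.Signalizer.Frame
open Cfsg.Agent.Lib.Signalizer.Chain Cfsg.Agent.Lib.Signalizer.Main
open Cfsg.Agent.Lib.Signalizer.GoodZJ Cfsg.Agent.Lib.Signalizer.Reduction

universe u

/-- A minimal context for `p = 2` is contradictory. -/
theorem false_of_minCtx_two {G : Type u} [Group G] [Finite G] {A : Subgroup G} {θ : G → Subgroup G}
    (ctx : MinCtx 2 A θ) : False := by
  refine false_of_minCtx ctx ?_ ?_
  · intro q hq _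
    exact ⟨_, _, goodW_two (ne_of_inPi ctx.hθ hq)⟩
  · intro q₁ q₂ q₃ h₁ h₂ h₃ h12 h13 h23
    refine ⟨q₁, q₂, q₃, h₁, h₂, h₃, h12, h13, h23, ?_, ?_, ?_⟩
    · intro _
      exact ⟨_, goodW_two (ne_of_inPi ctx.hθ h₁)⟩
    · intro _
      exact ⟨_, goodW_two (ne_of_inPi ctx.hθ h₂)⟩
    · intro _
      exact ⟨_, goodW_two (ne_of_inPi ctx.hθ h₃)⟩

/-- **The solvable signalizer functor theorem for `p = 2`.** -/
theorem complete_two {G : Type u} [Group G] [Finite G] {A : Subgroup G} {θ : G → Subgroup G}
    (hA : IsElementaryAbelian 2 A) (hA3 : 2 ^ 3 ≤ Nat.card A)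
    (hθ : IsSolvableSignalizerFunctor 2 A θ) :
    signalizerClosure A θ ∈ signalizerFamily 2 A θ :=
  complete_of_no_minCtx Set.univ (fun _ _ _ _ _ ctx _ => false_of_minCtx_two ctx) hA hA3 hθ
    (fun _ _ _ _ _ _ => Set.mem_univ _)

end Cfsg.Agent.Lib.Signalizer.CompleteTwo
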