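import Cfsg.Agent.Lib.Components.OddCoreFunctor
import Cfsg.Agent.Lib.Components.PConstrained
import Cfsg.Agent.Lib.Signalizer.CompleteTwo
import Cfsg.Agent.S0205
import Cfsg.Agent.S0502

set_option autoImplicit false
set_option linter.unusedVariables false
set_option linter.style.haveILetI false
set_option linter.unusedSectionVars false
set_option linter.deprecated false

/-!
# The odd cores of involution centralizers as a signalizer functor

If `C(b)/O(C(b))` has no components for every involution `b` (for instance if all involution centralizers are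
`2`-constrained), then `a ↦ O(C(a))` is a `2`-signalizer functor on every elementary abelian `2`-subgroup, and the
generated subgroups agree on connected four-groups.
-/

namespace Cfsg.Agent.Lib.Signalizer.TwoCore

open Cfsg
open Cfsg.Agent.Lib.Signalizer.CoreBalance
open Cfsg.Agent.Lib.Signalizer.CompleteTwo
open Cfsg.Agent.Lib.Components.OddCoreFunctor
open Cfsg.Agent.Lib.Components.PConstrained

universe u

variable {G : Type u} [Group G] [Finite G]

/-- No components in `C(b)/O(C(b))` for all involutions `b`. -/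
def CoreLay (G : Type u) [Group G] : Prop :=
  ∀ b : G, orderOf b = 2 →
    layer (↥(Subgroup.centralizer ({b} : Set G)) ⧸ pPrimeCore 2 ↥(Subgroup.centralizer ({b} : Set G))) = ⊥

/-- The normalizer of the subgroup generated by an involution is its centralizer. -/
theorem normalizer_zpowers_involution {b : G} (hb : orderOf b = 2) :
    Subgroup.normalizer ((Subgroup.zpowers b : Subgroup G) : Set G) = Subgroup.centralizer ({b} : Set G) := by
  have hb2 : b ^ 2 = 1 := by rw [← hb]; exact pow_orderOf_eq_one b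
  have hb1 : b ≠ 1 := by
    intro h
    rw [h, orderOf_one] at hb
    omega
  apply le_antisymm
  · intro x hx
    rw [Subgroup.mem_centralizer_singleton_iff]
    have h1 : x * b * x⁻¹ ∈ Subgroup.zpowers b :=
      (Subgroup.mem_normalizer_iff.mp hx b).mp (Subgroup.mem_zpowers b)
    have h2 : (x * b * x⁻¹) ^ 2 = 1 := by
      rw [conj_pow, hb2]; simp
    have h3 : x * b * x⁻¹ ≠ 1 := by
      intro h
      apply hb1
      have : x * b = x := by
        calc x * b = x * b * x⁻¹ * x := by group
          _ = x := by rw [h, one_mul]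
      simpa using this
    obtain ⟨n, hn⟩ := Subgroup.mem_zpowers_iff.mp h1
    have h4 : x * b * x⁻¹ = b := by
      rcases Int.even_or_odd' n with ⟨m, rfl | rfl⟩
      · exfalso
        apply h3
        rw [← hn, zpow_mul, zpow_ofNat, hb2, one_zpow]
      · rw [← hn, zpow_add, zpow_mul, zpow_ofNat, hb2, one_zpow, one_mul, zpow_one]
    calc x * b = x * b * x⁻¹ * x := by group
      _ = b * x := by rw [h4]
  · intro x hx
    rw [Subgroup.mem_normalizer_iff]
    intro h
    have hc : x * b = b * x := (Subgroup.mem_centralizer_singleton_iff.mp hx)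
    constructor
    · rintro ⟨n, rfl⟩
      refine ⟨n, ?_⟩
      show b ^ n = x * b ^ n * x⁻¹
      have : Commute b x := hc.symm
      rw [← (this.zpow_left n).eq]; group
    · rintro ⟨n, hn⟩
      refine ⟨n, ?_⟩
      have hn' : b ^ n = x * h * x⁻¹ := hn
      have : Commute b x := hc.symm
      have h5 : x * h * x⁻¹ = x * b ^ n * x⁻¹ := by
        rw [← hn']
        rw [← (this.zpow_left n).eq]; group
      have h6 : h = b ^ n := by
        have := congrArg (fun y => x⁻¹ * y * x) h5
        simpa [mul_assoc] using this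
      exact h6.symm

/-- From `2`-constraint of involution centralizers to `CoreLay`. -/
theorem coreLay_of_constrained
    (h : ∀ b : G, orderOf b = 2 → IsPConstrained 2 ↥(Subgroup.centralizer ({b} : Set G))) : CoreLay G := by
  intro b hb
  haveI : Fact (Nat.Prime 2) := ⟨Nat.prime_two⟩
  exact pLayer_eq_bot_iff.mp (isPConstrained_iff_pLayer_eq_bot.mp (h b hb))

/-- Balance for `2`-elements. -/
theorem core_inf_le_pow {p : ℕ} [Fact p.Prime] {a b : G} (hab : a * b = b * a) (k : ℕ) (hap : a ^ (p ^ k) = 1)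
    (hl : layer (↥(Subgroup.centralizer ({b} : Set G)) ⧸
      pPrimeCore p ↥(Subgroup.centralizer ({b} : Set G))) = ⊥) :
    centralizerPPrimeCore p a ⊓ Subgroup.centralizer {b} ≤ centralizerPPrimeCore p b := by
  classical
  set Cb := Subgroup.centralizer ({b} : Set G) with hCb
  have haCb : a ∈ Cb := Subgroup.mem_centralizer_singleton_iff.mpr hab
  set a' : Cb := ⟨a, haCb⟩ with ha'
  have ha'p : a' ^ (p ^ k) = 1 := Subtype.ext hap
  set E : Subgroup Cb := Subgroup.zpowers a' with hE
  have hEq : IsPGroup p E := by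
    rintro ⟨_, n, rfl⟩
    refine ⟨k, ?_⟩
    apply Subtype.ext
    show (a' ^ n) ^ p ^ k = 1
    rw [← zpow_natCast, ← zpow_mul, mul_comm, zpow_mul, zpow_natCast, ha'p, one_zpow]
  set D : Subgroup Cb := (centralizerPPrimeCore p a ⊓ Subgroup.centralizer {b}).comap Cb.subtype with hD
  have hDθ : D.map Cb.subtype ≤ centralizerPPrimeCore p a := by
    rintro _ ⟨x, hx, rfl⟩
    exact hx.1
  have hDp : ¬ p ∣ Nat.card D := by
    intro h
    have h1 : Nat.card (D.map Cb.subtype) = Nat.card D :=
      Subgroup.card_map_of_injective (Subgroup.subtype_injective _)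
    rw [← h1] at h
    exact not_dvd_card_centralizerPPrimeCore (p := p) a (h.trans (Subgroup.card_dvd_of_le hDθ))
  have hDE : D ≤ Subgroup.centralizer (E : Set Cb) := by
    intro x hx
    rw [Subgroup.mem_centralizer_iff]
    rintro _ ⟨n, rfl⟩
    have h1 : (x : G) * a = a * x :=
      Subgroup.mem_centralizer_singleton_iff.mp (centralizerPPrimeCore_le a hx.1)
    have h2 : x * a' = a' * x := Subtype.ext h1
    have h3 : Commute a' x := h2.symm
    exact (h3.zpow_left n).eq
  have hDn : Subgroup.centralizer (E : Set Cb) ≤ Subgroup.normalizer (D : Set Cb) := by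
    intro c hc
    have hca : (c : G) ∈ Subgroup.centralizer ({a} : Set G) := by
      have h1 := (Subgroup.mem_centralizer_iff.mp hc) a' (Subgroup.mem_zpowers a')
      rw [Subgroup.mem_centralizer_singleton_iff]
      exact (congrArg Subtype.val h1).symm
    apply Cfsg.Agent.Lib.Coprime.Three.mem_normalizer_of_conj_mem
    intro x hx
    refine ⟨conj_mem_centralizerPPrimeCore hca hx.1, ?_⟩
    exact (c * x * c⁻¹).2
  have hle := le_pPrimeCore_of_layer hl hEq hDp hDE hDn
  intro x hx
  have hxCb : x ∈ Cb := hx.2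
  have hxD : (⟨x, hxCb⟩ : Cb) ∈ D := hx
  exact ⟨_, hle hxD, rfl⟩

theorem orderOf_eq_two_of_mem {A : Subgroup G} (hA : IsElementaryAbelian 2 A) {a : G} (ha : a ∈ A) (ha1 : a ≠ 1) :
    orderOf a = 2 := orderOf_eq_prime (hA.2 a ha) ha1

/-- The odd core functor. -/
theorem core_functor (hl : CoreLay G) {A : Subgroup G} (hA : IsElementaryAbelian 2 A) :
    IsSolvableSignalizerFunctor 2 A (fun a => centralizerPPrimeCore 2 a) := by
  haveI : Fact (Nat.Prime 2) := ⟨Nat.prime_two⟩
  haveI := hA.1
  have hcomm : ∀ {a b : G}, a ∈ A → b ∈ A → a * b = b * a :=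
    fun ha hb => Subgroup.mul_comm_of_mem_isMulCommutative A ha hb
  refine ⟨⟨?_, ?_, ?_, ?_⟩, ?_⟩
  · intro a ha ha1
    exact centralizerPPrimeCore_le a
  · intro a ha ha1
    exact not_dvd_card_centralizerPPrimeCore a
  · intro a ha ha1 b hb x hx
    exact conj_mem_centralizerPPrimeCore (Subgroup.mem_centralizer_singleton_iff.mpr (hcomm hb ha)) hx
  · intro a ha ha1 b hb hb1
    exact centralizerPPrimeCore_inf_le_of_layer (hcomm ha hb) (hA.2 a ha) (hl b (orderOf_eq_two_of_mem hA hb hb1))
  · intro a ha ha1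
    exact Cfsg.Agent.S0205.result (Nat.not_even_iff_odd.mp (fun h =>
      not_dvd_card_centralizerPPrimeCore (p := 2) a (even_iff_two_dvd.mp h)))

/-- Generation by the centralizers of non-identity elements, `|V| ≥ 4`. -/
theorem le_iSup_inf_centralizer_four {V : Subgroup G} (hV : IsElementaryAbelian 2 V) (hV4 : 4 ≤ Nat.card V)
    {K : Subgroup G} (hKp : ¬ 2 ∣ Nat.card K) (hVK : V ≤ Subgroup.normalizer (K : Set G)) :
    K ≤ ⨆ a : {a : G // a ∈ V ∧ a ≠ 1}, K ⊓ Subgroup.centralizer {(a : G)} := by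
  haveI : Fact (Nat.Prime 2) := ⟨Nat.prime_two⟩
  refine (Cfsg.Agent.Lib.Coprime.GenerationE.le_iSup_relIndex_le V K hV hKp hVK).trans ?_
  refine iSup_le ?_
  rintro ⟨B, hB, hi⟩
  obtain ⟨a, ha1, hne⟩ : ∃ a ∈ B, a ≠ 1 := by
    by_contra hcon
    push Not at hcon
    have hbot : B = ⊥ := by
      rw [eq_bot_iff]
      intro x hx
      exact Subgroup.mem_bot.mpr (hcon x hx)
    rw [hbot, Subgroup.relIndex_bot_left] at hi
    omega
  refine le_trans ?_ (le_iSup (fun a : {a : G // a ∈ V ∧ a ≠ 1} => K ⊓ Subgroup.centralizer {(a : G)})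
    ⟨a, hB ha1, hne⟩)
  apply inf_le_inf_left
  intro x hx
  show x ∈ Subgroup.centralizer {a}
  rw [Subgroup.mem_centralizer_singleton_iff]
  exact ((Subgroup.mem_centralizer_iff.mp hx) a ha1).symm

/-- The closure of the core functor. -/
abbrev coreW (V : Subgroup G) : Subgroup G :=
  signalizerClosure V (fun a => centralizerPPrimeCore 2 a)

/-- The closure on an elementary abelian group of order at least 8 is a member of the family. -/
theorem coreW_mem_family (hl : CoreLay G) {A : Subgroup G} (hA : IsElementaryAbelian 2 A) (hA8 : 8 ≤ Nat.card A) :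
    coreW A ∈ signalizerFamily 2 A (fun a => centralizerPPrimeCore 2 a) :=
  complete_two hA (by simpa using hA8) (core_functor hl hA)

theorem core_le_coreW {A : Subgroup G} {a : G} (ha : a ∈ A) (ha1 : a ≠ 1) :
    centralizerPPrimeCore 2 a ≤ coreW A :=
  le_iSup (fun a : {a : G // a ∈ A ∧ a ≠ 1} => centralizerPPrimeCore 2 (a : G)) ⟨a, ha, ha1⟩

theorem not_dvd_card_coreW (hl : CoreLay G) {A : Subgroup G} (hA : IsElementaryAbelian 2 A)
    (hA8 : 8 ≤ Nat.card A) : ¬ 2 ∣ Nat.card (coreW A) :=
  (coreW_mem_family hl hA hA8).2.1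

/-- The closure does not change on subgroups of order at least 4. -/
theorem coreW_eq_of_le (hl : CoreLay G) {A : Subgroup G} (hA : IsElementaryAbelian 2 A) (hA8 : 8 ≤ Nat.card A)
    {V : Subgroup G} (hVA : V ≤ A) (hV4 : 4 ≤ Nat.card V) : coreW V = coreW A := by
  have hm := coreW_mem_family hl hA hA8
  apply le_antisymm
  · exact iSup_le fun v => core_le_coreW (hVA v.2.1) v.2.2
  · have hV : IsElementaryAbelian 2 V := by
      refine ⟨?_, fun a ha => hA.2 a (hVA ha)⟩
      haveI := hA.1
      exact ⟨⟨fun x y => Subtype.ext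
        (Subgroup.mul_comm_of_mem_isMulCommutative A (hVA x.2) (hVA y.2))⟩⟩
    have hn : V ≤ Subgroup.normalizer ((coreW A : Subgroup G) : Set G) := by
      intro v hv
      apply Cfsg.Agent.Lib.Coprime.Three.mem_normalizer_of_conj_mem
      intro x hx
      exact hm.2.2.1 v (hVA hv) x hx
    refine (le_iSup_inf_centralizer_four hV hV4 hm.2.1 hn).trans (iSup_le ?_)
    rintro ⟨v, hv, hv1⟩
    exact (hm.2.2.2 v (hVA hv) hv1).trans (core_le_coreW hv hv1)

/-- The join of two commuting elementary abelian `2`-subgroups. -/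
theorem isElementaryAbelian_sup {U V : Subgroup G} (hU : ∀ u ∈ U, u ^ 2 = 1) (hV : ∀ v ∈ V, v ^ 2 = 1)
    (hUc : ∀ x ∈ U, ∀ y ∈ U, x * y = y * x) (hVc : ∀ x ∈ V, ∀ y ∈ V, x * y = y * x)
    (hUV : ∀ x ∈ U, ∀ y ∈ V, x * y = y * x) : IsElementaryAbelian 2 (U ⊔ V) := by
  have hs : ∀ x ∈ (U : Set G) ∪ V, ∀ y ∈ (U : Set G) ∪ V, x * y = y * x := by
    rintro x (hx | hx) y (hy | hy)
    · exact hUc x hx y hy
    · exact hUV x hx y hy
    · exact (hUV y hy x hx).symm
    · exact hVc x hx y hy
  have hc : IsMulCommutative (U ⊔ V : Subgroup G) := by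
    rw [Subgroup.sup_eq_closure]
    exact Subgroup.isMulCommutative_closure hs
  refine ⟨hc, ?_⟩
  intro a ha
  rw [Subgroup.sup_eq_closure] at ha hc
  induction ha using Subgroup.closure_induction with
  | mem x hx =>
    rcases hx with hx | hx
    · exact hU x hx
    · exact hV x hx
  | one => simp
  | mul x y hx hy h1 h2 =>
    have : x * y = y * x := congrArg Subtype.val (hc.is_comm.comm ⟨x, hx⟩ ⟨y, hy⟩)
    rw [(show Commute x y from this).mul_pow, h1, h2, one_mul]
  | inv x hx h1 => rw [inv_pow, h1, inv_one]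

theorem klein_sq {U : Subgroup G} (hU : IsKleinFour U) : ∀ u ∈ U, u ^ 2 = 1 := by
  intro u hu
  have := IsKleinFour.mul_self (⟨u, hu⟩ : U)
  rw [pow_two]
  exact congrArg Subtype.val this

theorem klein_comm {U : Subgroup G} (hU : IsKleinFour U) : ∀ x ∈ U, ∀ y ∈ U, x * y = y * x := by
  intro x hx y hy
  exact congrArg Subtype.val ((IsKleinFour.isMulCommutative (G := U)).is_comm.comm ⟨x, hx⟩ ⟨y, hy⟩)

/-- A `2`-group of order greater than `4` has order at least `8`. -/
theorem eight_le_of_lt {A : Subgroup G} (h2 : IsPGroup 2 A) (h : 4 < Nat.card A) : 8 ≤ Nat.card A := by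
  obtain ⟨k, hk⟩ := IsPGroup.iff_card.mp h2
  rw [hk] at h ⊢
  by_contra hc
  have hk3 : k < 3 := by
    by_contra h6
    apply hc
    calc 8 = 2 ^ 3 := by norm_num
      _ ≤ 2 ^ k := Nat.pow_le_pow_right (by norm_num) (by omega)
  interval_cases k <;> omega

theorem isPGroup_of_sq {A : Subgroup G} (hA : ∀ a ∈ A, a ^ 2 = 1) : IsPGroup 2 A := by
  intro a
  refine ⟨1, ?_⟩
  apply Subtype.ext
  simpa using hA a a.2

/-- Commuting four-groups have the same closure. -/
theorem coreW_eq_of_commute (hl : CoreLay G) {U V : Subgroup G} (hU : IsKleinFour U) (hV : IsKleinFour V)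
    (hUV : ∀ x ∈ U, ∀ y ∈ V, x * y = y * x) : coreW U = coreW V := by
  by_cases heq : U = V
  · rw [heq]
  have hcU : Nat.card U = 4 := IsKleinFour.card_four
  have hcV : Nat.card V = 4 := IsKleinFour.card_four
  have hA := isElementaryAbelian_sup (klein_sq hU) (klein_sq hV) (klein_comm hU) (klein_comm hV) hUV
  have hA2 : IsPGroup 2 (U ⊔ V : Subgroup G) := isPGroup_of_sq hA.2
  have hA8 : 8 ≤ Nat.card (U ⊔ V : Subgroup G) := by
    apply eight_le_of_lt hA2
    have hdvd : Nat.card U ∣ Nat.card (U ⊔ V : Subgroup G) := Subgroup.card_dvd_of_le le_sup_left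
    have hle : Nat.card U ≤ Nat.card (U ⊔ V : Subgroup G) := Nat.le_of_dvd Nat.card_pos hdvd
    rcases hle.lt_or_eq with h | h
    · omega
    · exfalso
      have h1 : U = U ⊔ V := Subgroup.eq_of_le_of_card_ge le_sup_left (by omega)
      have h2 : V ≤ U := by rw [h1]; exact le_sup_right
      have h3 : V = U := Subgroup.eq_of_le_of_card_ge h2 (by omega)
      exact heq h3.symm
  rw [coreW_eq_of_le hl hA hA8 le_sup_left (by omega), coreW_eq_of_le hl hA hA8 le_sup_right (by omega)]

theorem isKleinFour_of_mulEquiv {A B : Type*} [Group A] [Group B] (e : A ≃* B) (hA : IsKleinFour A) :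
    IsKleinFour B := by
  refine ⟨by rw [← Nat.card_congr e.toEquiv]; exact IsKleinFour.card_four, ?_⟩
  rw [← Monoid.exponent_eq_of_mulEquiv e]
  exact IsKleinFour.exponent_two

theorem isKleinFour_map_subtype {T : Subgroup G} {U : Subgroup ↥T} (hU : IsKleinFour U) :
    IsKleinFour (U.map T.subtype) :=
  isKleinFour_of_mulEquiv (U.equivMapOfInjective T.subtype (Subgroup.subtype_injective _)) hU

theorem isKleinFour_subgroupOf {T U : Subgroup G} (hUT : U ≤ T) (hU : IsKleinFour U) :
    IsKleinFour (U.subgroupOf T) :=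
  isKleinFour_of_mulEquiv (Subgroup.subgroupOfEquivOfLe hUT).symm hU

/-- In a `2`-group with a normal elementary abelian subgroup of order at least 8 all four-groups
have the same closure, of odd order. -/
theorem exists_coreW (hl : CoreLay G) {T E : Subgroup G} (hT : IsPGroup 2 T) (hET : E ≤ T)
    (hEn : T ≤ Subgroup.normalizer (E : Set G)) (hEc : IsMulCommutative E) (hE2 : ∀ e ∈ E, e ^ 2 = 1)
    (hE8 : 8 ≤ Nat.card E) :
    ∃ W : Subgroup G, ¬ 2 ∣ Nat.card W ∧ ∀ V : Subgroup G, V ≤ T → IsKleinFour V → coreW V = W := by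
  classical
  have hA : IsElementaryAbelian 2 E := ⟨hEc, hE2⟩
  refine ⟨coreW E, not_dvd_card_coreW hl hA hE8, ?_⟩
  haveI : (E.subgroupOf T).Normal := (Subgroup.normal_subgroupOf_iff_le_normalizer hET).mpr hEn
  have hEc' : IsMulCommutative (E.subgroupOf T) := by
    refine ⟨⟨fun x y => Subtype.ext (Subtype.ext ?_)⟩⟩
    exact Subgroup.mul_comm_of_mem_isMulCommutative E (Subgroup.mem_subgroupOf.mp x.2)
      (Subgroup.mem_subgroupOf.mp y.2)
  have hcard : Nat.card (E.subgroupOf T) = Nat.card E :=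
    Nat.card_congr (Subgroup.subgroupOfEquivOfLe hET).toEquiv
  have hconn : IsFourConnected ↥T := Cfsg.Agent.S0502.result hT (E.subgroupOf T) hEc'
    (fun e he => Subtype.ext (by simpa using hE2 _ (Subgroup.mem_subgroupOf.mp he))) (by rw [hcard]; exact hE8)
  have hchain : ∀ U U' : Subgroup ↥T, IsKleinFour U →
      Relation.ReflTransGen (fun A B : Subgroup ↥T => IsKleinFour A ∧ IsKleinFour B ∧
        ∀ a ∈ A, ∀ b ∈ B, a * b = b * a) U U' → coreW (U.map T.subtype) = coreW (U'.map T.subtype) := by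
    intro U U' hU hr
    induction hr with
    | refl => rfl
    | tail _ hbc ih =>
      rw [ih]
      obtain ⟨hb, hc, hbc'⟩ := hbc
      apply coreW_eq_of_commute hl (isKleinFour_map_subtype hb) (isKleinFour_map_subtype hc)
      rintro _ ⟨x, hx, rfl⟩ _ ⟨y, hy, rfl⟩
      exact congrArg Subtype.val (hbc' x hx y hy)
  -- a four-group in `E`
  obtain ⟨F, hFE, hF4⟩ : ∃ F : Subgroup G, F ≤ E ∧ Nat.card F = 4 := by
    obtain ⟨k, hk⟩ := IsPGroup.iff_card.mp (isPGroup_of_sq hE2)
    have hk2 : 2 ≤ k := by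
      by_contra h
      have : k = 0 ∨ k = 1 := by omega
      rcases this with rfl | rfl <;> simp [hk] at hE8
    haveI : Fact (Nat.Prime 2) := ⟨Nat.prime_two⟩
    obtain ⟨F', hF'⟩ := Sylow.exists_subgroup_card_pow_prime (G := E) 2 (n := 2)
      (by rw [hk]; exact pow_dvd_pow 2 hk2)
    refine ⟨F'.map E.subtype, ?_, ?_⟩
    · rintro _ ⟨x, _, rfl⟩
      exact x.2
    · rw [Subgroup.card_map_of_injective (Subgroup.subtype_injective _), hF']
      norm_num
  have hFK : IsKleinFour F := by
    refine ⟨hF4, ?_⟩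
    haveI : Finite F := inferInstance
    haveI : Nontrivial F := Finite.one_lt_card_iff_nontrivial.1 (by rw [hF4]; norm_num)
    rw [Monoid.exponent_eq_prime_iff Nat.prime_two]
    · rintro ⟨x, hx⟩ hx1
      have hx1' : x ≠ 1 := fun h => hx1 (Subtype.ext h)
      have : orderOf (⟨x, hx⟩ : F) = orderOf x := Subgroup.orderOf_mk x hx
      rw [this]
      exact orderOf_eq_prime (hE2 x (hFE hx)) hx1'
  intro V hVT hV
  have h1 := hchain _ _ (isKleinFour_subgroupOf hVT hV) (hconn (V.subgroupOf T) (F.subgroupOf T)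
    (isKleinFour_subgroupOf hVT hV) (isKleinFour_subgroupOf (hFE.trans hET) hFK))
  have h2 : (V.subgroupOf T).map T.subtype = V := by
    rw [Subgroup.subgroupOf_map_subtype, inf_eq_left.mpr hVT]
  have h3 : (F.subgroupOf T).map T.subtype = F := by
    rw [Subgroup.subgroupOf_map_subtype, inf_eq_left.mpr (hFE.trans hET)]
  rw [h2, h3] at h1
  rw [h1]
  exact coreW_eq_of_le hl hA hE8 hFE (by omega)

/-- Every involution of `T` lies in a four-group of `T`. -/
theorem exists_four_of_involution {T E : Subgroup G} (hT : IsPGroup 2 T) (hET : E ≤ T)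
    (hEn : T ≤ Subgroup.normalizer (E : Set G)) (hEc : IsMulCommutative E) (hE2 : ∀ e ∈ E, e ^ 2 = 1)
    (hE8 : 8 ≤ Nat.card E) {t : G} (htT : t ∈ T) (ht : orderOf t = 2) :
    ∃ V : Subgroup G, V ≤ T ∧ IsKleinFour V ∧ t ∈ V := by
  classical
  have hEc' : ∀ x ∈ E, ∀ y ∈ E, x * y = y * x := fun x hx y hy =>
    Subgroup.mul_comm_of_mem_isMulCommutative E hx hy
  have ht2 : t ^ 2 = 1 := by rw [← ht]; exact pow_orderOf_eq_one t
  have ht1 : t ≠ 1 := by
    intro h
    rw [h, orderOf_one] at ht
    omega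
  have h1 := Cfsg.Agent.S0502.card_le_fixed_sq E hEc' hE2 t ht2
    (fun x hx => (Subgroup.mem_normalizer_iff.mp (hEn htT) x).mp hx)
  -- another element
  obtain ⟨f, hfE, hft, hf1, hfne⟩ : ∃ f ∈ E, t * f = f * t ∧ f ≠ 1 ∧ t ≠ f := by
    by_contra hcon
    push Not at hcon
    have h2 : ((E ⊓ Subgroup.centralizer ({t} : Set G) : Subgroup G) : Set G) ⊆
        (({1, t} : Finset G) : Set G) := by
      intro x hx
      have hx2 := (Subgroup.mem_inf.1 hx).2
      rw [Subgroup.mem_centralizer_singleton_iff] at hx2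
      by_cases hx1 : x = 1
      · simp [hx1]
      · have := hcon x hx.1 hx2.symm hx1
        simp [this]
    have h3 := Set.ncard_le_ncard h2 (Finset.finite_toSet _)
    rw [Set.ncard_coe_finset] at h3
    have h4 : Nat.card (E ⊓ Subgroup.centralizer ({t} : Set G) : Subgroup G) =
        ((E ⊓ Subgroup.centralizer ({t} : Set G) : Subgroup G) : Set G).ncard := by
      rw [← Nat.card_coe_set_eq]; rfl
    rw [← h4] at h3
    have h5 : ({1, t} : Finset G).card ≤ 2 := Finset.card_le_two
    have h6 : Nat.card E ≤ 2 ^ 2 := h1.trans (Nat.pow_le_pow_left (h3.trans h5) 2)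
    omega
  refine ⟨Cfsg.Agent.S0502.four t f ht2 (hE2 f hfE) hft, ?_, Cfsg.Agent.S0502.isKleinFour_four _ _ _ ht1 hf1 hfne, ?_⟩
  · rintro x (rfl | rfl | rfl | rfl)
    · exact T.one_mem
    · exact htT
    · exact hET hfE
    · exact T.mul_mem htT (hET hfE)
  · exact Or.inr (Or.inl rfl)

/-- The involution in the group generated by a non-identity `2`-element. -/
theorem exists_involution_pow {b : G} (hb1 : b ≠ 1) {k : ℕ} (hk : b ^ (2 ^ k) = 1) :
    ∃ b₀ : G, b₀ ∈ Subgroup.zpowers b ∧ orderOf b₀ = 2 := by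
  have hd : orderOf b ∣ 2 ^ k := orderOf_dvd_of_pow_eq_one hk
  obtain ⟨j, hj, hob⟩ := (Nat.dvd_prime_pow Nat.prime_two).mp hd
  have hj0 : j ≠ 0 := by
    rintro rfl
    simp only [pow_zero] at hob
    exact hb1 (orderOf_eq_one_iff.mp hob)
  obtain ⟨i, rfl⟩ := Nat.exists_eq_succ_of_ne_zero hj0
  refine ⟨b ^ (2 ^ i), ⟨_, zpow_natCast b _⟩, ?_⟩
  apply orderOf_eq_prime
  · rw [← pow_mul, ← pow_succ, ← Nat.succ_eq_add_one, ← hob]
    exact pow_orderOf_eq_one b
  · intro h
    have h1 := orderOf_dvd_of_pow_eq_one h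
    rw [hob] at h1
    have := Nat.le_of_dvd (by positivity) h1
    have h2 : 2 ^ i < 2 ^ (i + 1) := Nat.pow_lt_pow_right (by norm_num) (by omega)
    simp only [Nat.succ_eq_add_one] at this
    omega

/-- A core of a `2`-element lies in the core of an involution in the group it generates. -/
theorem core_le_core_pow (hl : CoreLay G) {b b₀ : G} {k : ℕ} (hk : b ^ (2 ^ k) = 1)
    (hb₀ : b₀ ∈ Subgroup.zpowers b) (ho : orderOf b₀ = 2) :
    centralizerPPrimeCore 2 b ≤ centralizerPPrimeCore 2 b₀ := by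
  haveI : Fact (Nat.Prime 2) := ⟨Nat.prime_two⟩
  obtain ⟨n, rfl⟩ := hb₀
  have hc : Commute b (b ^ n) := (Commute.refl b).zpow_right n
  intro x hx
  apply core_inf_le_pow (p := 2) (a := b) (b := b ^ n) hc.eq k hk (hl _ ho)
  refine ⟨hx, ?_⟩
  have h1 : x * b = b * x := Subgroup.mem_centralizer_singleton_iff.mp (centralizerPPrimeCore_le b hx)
  show x ∈ Subgroup.centralizer {b ^ n}
  rw [Subgroup.mem_centralizer_singleton_iff]
  have h2 : Commute x b := h1
  exact (h2.zpow_right n).eq

end Cfsg.Agent.Lib.Signalizer.TwoCore
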